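import Mathlib.CategoryTheory.Triangulated.TStructure.AbelianSubcategory
import Mathlib.CategoryTheory.Triangulated.TStructure.Heart
import Mathlib.CategoryTheory.Triangulated.TStructure.TruncLEGT

/-!
# The heart of a t-structure
-/

universe v u v' u'

open CategoryTheory CategoryTheory.Limits CategoryTheory.Pretriangulated CategoryTheory.Triangulated
open ZeroObject

namespace Groth.Agent.PervTLib

variable {C : Type u} [Category.{v} C] [Preadditive C] [HasZeroObject C] [HasShift C ℤ]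
  [∀ n : ℤ, (shiftFunctor C n).Additive] [Pretriangulated C] [IsTriangulated C] (t : TStructure C)
  {H : Type u'} [Category.{v'} H] [Preadditive H] [t.Heart H]

omit [IsTriangulated C] in
lemma ιHeart_hι ⦃X Y : H⦄ ⦃n : ℤ⦄ (f : t.ιHeart.obj X ⟶ (t.ιHeart.obj Y)⟦n⟧) (hn : n < 0) :
    f = 0 := by
  have : t.IsGE ((t.ιHeart.obj Y)⟦n⟧) (-n) := t.isGE_shift _ 0 n (-n) (by lia)
  exact t.zero f 0 (-n) (by lia)

omit [IsTriangulated C] in
lemma exists_iso_ιHeart (X : C) [t.IsLE X 0] [t.IsGE X 0] :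
    ∃ A : H, Nonempty (t.ιHeart.obj A ≅ X) := by
  have h : t.heart X := ⟨t.le_of_isLE X 0, t.ge_of_isGE X 0⟩
  rw [← t.essImage_ιHeart H] at h
  obtain ⟨A, ⟨e⟩⟩ := h
  exact ⟨A, ⟨e⟩⟩

include t in
lemma hasFiniteProducts_heart : HasFiniteProducts H := by
  have hzero : HasZeroObject H := by
    obtain ⟨A, ⟨e⟩⟩ := exists_iso_ιHeart (H := H) t (0 : C)
    have hA : IsZero (t.ιHeart.obj A) := IsZero.of_iso (isZero_zero C) e
    refine ⟨⟨A, ?_⟩⟩
    rw [IsZero.iff_id_eq_zero]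
    exact t.ιHeart.map_injective (hA.eq_of_src _ _)
  have hb : HasBinaryBiproducts H := ⟨fun X Y ↦ by
    have h1 : t.IsLE (t.ιHeart.obj X ⊞ t.ιHeart.obj Y) 0 :=
      t.isLE₂ _ (binaryBiproductTriangle_distinguished _ _) 0 (inferInstanceAs (t.IsLE (t.ιHeart.obj X) 0))
        (inferInstanceAs (t.IsLE (t.ιHeart.obj Y) 0))
    have h2 : t.IsGE (t.ιHeart.obj X ⊞ t.ιHeart.obj Y) 0 :=
      t.isGE₂ _ (binaryBiproductTriangle_distinguished _ _) 0 (inferInstanceAs (t.IsGE (t.ιHeart.obj X) 0))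
        (inferInstanceAs (t.IsGE (t.ιHeart.obj Y) 0))
    obtain ⟨A, ⟨e⟩⟩ := exists_iso_ιHeart (H := H) t (t.ιHeart.obj X ⊞ t.ιHeart.obj Y)
    let fst : A ⟶ X := t.ιHeart.preimage (e.hom ≫ biprod.fst)
    let snd : A ⟶ Y := t.ιHeart.preimage (e.hom ≫ biprod.snd)
    let inl : X ⟶ A := t.ιHeart.preimage (biprod.inl ≫ e.inv)
    let inr : Y ⟶ A := t.ιHeart.preimage (biprod.inr ≫ e.inv)
    let b : BinaryBicone X Y :=
      { pt := A, fst := fst, snd := snd, inl := inl, inr := inr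
        inl_fst := t.ιHeart.map_injective (by simp [fst, inl])
        inl_snd := t.ιHeart.map_injective (by simp [snd, inl])
        inr_fst := t.ιHeart.map_injective (by simp [fst, inr])
        inr_snd := t.ιHeart.map_injective (by simp [snd, inr]) }
    exact hasBinaryBiproduct_of_total b (t.ιHeart.map_injective (by
      simp only [b, fst, snd, inl, inr, Functor.map_add, Functor.map_comp, Functor.map_preimage]
      rw [CategoryTheory.Functor.map_id]
      calc (e.hom ≫ biprod.fst) ≫ biprod.inl ≫ e.inv + (e.hom ≫ biprod.snd) ≫ biprod.inr ≫ e.inv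
          = (e.hom ≫ (biprod.fst ≫ biprod.inl + biprod.snd ≫ biprod.inr)) ≫ e.inv := by
            rw [Preadditive.comp_add, Preadditive.add_comp]
            simp only [Category.assoc]
        _ = _ := by rw [biprod.total, Category.comp_id, e.hom_inv_id]))⟩
  haveI := hzero.hasTerminal
  exact hasFiniteProducts_of_has_binary_and_terminal

lemma admissibleMorphism_eq_top :
    AbelianSubcategory.admissibleMorphism (t.ιHeart (H := H)) = ⊤ := by
  refine top_unique fun X₁ X₂ f _ X₃ f₂ f₃ hT ↦ ?_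
  have hge : t.IsGE X₃ (-1) :=
    t.isGE₂ _ (rot_of_distTriang _ hT) (-1) (t.isGE_of_ge (t.ιHeart.obj X₂) (-1) 0)
      (t.isGE_shift (t.ιHeart.obj X₁) 0 1 (-1))
  have hle : t.IsLE X₃ 0 :=
    t.isLE₂ _ (rot_of_distTriang _ hT) 0 (inferInstanceAs (t.IsLE (t.ιHeart.obj X₂) 0))
      (by
        have := t.isLE_shift (t.ιHeart.obj X₁) 0 1 (-1)
        exact t.isLE_of_le ((t.ιHeart.obj X₁)⟦(1 : ℤ)⟧) (-1) 0)
  have hQ : t.IsLE ((t.truncGE 0).obj X₃) 0 := inferInstance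
  have hKge : t.IsGE ((t.truncLE (-1)).obj X₃) (-1) := inferInstance
  have hK1 : t.IsLE (((t.truncLE (-1)).obj X₃)⟦(-1 : ℤ)⟧) 0 := t.isLE_shift _ (-1) (-1) 0
  have hK2 : t.IsGE (((t.truncLE (-1)).obj X₃)⟦(-1 : ℤ)⟧) 0 := t.isGE_shift _ (-1) (-1) 0
  obtain ⟨K, ⟨eK⟩⟩ := exists_iso_ιHeart (H := H) t (((t.truncLE (-1)).obj X₃)⟦(-1 : ℤ)⟧)
  obtain ⟨Q, ⟨eQ⟩⟩ := exists_iso_ιHeart (H := H) t ((t.truncGE 0).obj X₃)
  let eK' : (t.ιHeart.obj K)⟦(1 : ℤ)⟧ ≅ (t.truncLE (-1)).obj X₃ :=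
    (shiftFunctor C (1 : ℤ)).mapIso eK ≪≫
      (shiftEquiv' C (-1 : ℤ) 1 (by simp)).unitIso.symm.app _
  refine ⟨K, Q, eK'.hom ≫ (t.truncLEι (-1)).app X₃, (t.truncGEπ 0).app X₃ ≫ eQ.inv,
    eQ.hom ≫ (t.truncGEδLE (-1) 0 (by simp)).app X₃ ≫ (eK'.inv)⟦(1 : ℤ)⟧', ?_⟩
  refine isomorphic_distinguished _ (t.triangleLEGE_distinguished (-1) 0 (by simp) X₃) _ ?_
  refine Triangle.isoMk _ _ eK' (Iso.refl _) eQ ?_ ?_ ?_
  · exact Category.comp_id _
  · change ((t.truncGEπ 0).app X₃ ≫ eQ.inv) ≫ eQ.hom = 𝟙 _ ≫ (t.truncGEπ 0).app X₃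
    erw [Category.assoc, eQ.inv_hom_id, Category.comp_id, Category.id_comp]
  · change (eQ.hom ≫ (t.truncGEδLE (-1) 0 (by simp)).app X₃ ≫
      (shiftFunctor C (1 : ℤ)).map eK'.inv) ≫ (shiftFunctor C (1 : ℤ)).map eK'.hom =
        eQ.hom ≫ (t.truncGEδLE (-1) 0 (by simp)).app X₃
    erw [Category.assoc, Category.assoc, ← Functor.map_comp, eK'.inv_hom_id, CategoryTheory.Functor.map_id,
      Category.comp_id]

/-- The heart of a t-structure is abelian. -/
@[instance_reducible]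
noncomputable def heartAbelian : Abelian H :=
  haveI : HasFiniteProducts H := hasFiniteProducts_heart t
  AbelianSubcategory.abelian t.ιHeart (ιHeart_hι t) (admissibleMorphism_eq_top t)

end Groth.Agent.PervTLib
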