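import Groth.Agent.PervTLib.Heart
import Mathlib.CategoryTheory.Triangulated.HomologicalFunctor
import Mathlib.Algebra.Homology.ShortComplex.ShortExact

/-!
# Short exact sequences in the heart and the cohomological functor of a t-structure
-/

universe v u v' u'

open CategoryTheory CategoryTheory.Limits CategoryTheory.Pretriangulated CategoryTheory.Triangulated
open ZeroObject

namespace Groth.Agent.PervTLib

variable {C : Type u} [Category.{v} C] [Preadditive C] [HasZeroObject C] [HasShift C ℤ]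
  [∀ n : ℤ, (shiftFunctor C n).Additive] [Pretriangulated C] [IsTriangulated C] (t : TStructure C)
  {H : Type u'} [Category.{v'} H] [Abelian H] [t.Heart H]

theorem shortExact_iff {X Y Z : H} (u : X ⟶ Y) (v : Y ⟶ Z) :
    (∃ huv : u ≫ v = 0, (ShortComplex.mk u v huv).ShortExact) ↔
      ∃ (w : t.ιHeart.obj Z ⟶ (t.ιHeart.obj X)⟦(1 : ℤ)⟧),
        Triangle.mk (t.ιHeart.map u) (t.ιHeart.map v) w ∈ distTriang C := by
  constructor
  · rintro ⟨huv, hS⟩
    have hu : Mono u := hS.mono_f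
    obtain ⟨X₃, f₂, f₃, hT⟩ := distinguished_cocone_triangle (t.ιHeart.map u)
    have hadm : AbelianSubcategory.admissibleMorphism (t.ιHeart (H := H)) u := by
      rw [admissibleMorphism_eq_top t]; trivial
    obtain ⟨K, Q, α, β, γ, hT'⟩ := hadm f₂ f₃ hT
    have hK : IsZero K := by
      have hm := AbelianSubcategory.mono_ιK (ιHeart_hι t) hT hT'
      have h0 : AbelianSubcategory.ιK f₃ α = 0 :=
        (cancel_mono u).1 ((AbelianSubcategory.ιK_mor₁ hT α).trans zero_comp.symm)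
      rw [IsZero.iff_id_eq_zero, ← cancel_mono (AbelianSubcategory.ιK f₃ α), h0, comp_zero,
        comp_zero]
    have hβ : IsIso β := (Triangle.isZero₁_iff_isIso₂ _ hT').1
      (Functor.map_isZero _ (Functor.map_isZero _ hK))
    let e : Q ≅ Z :=
      (AbelianSubcategory.isColimitCokernelCofork (ιHeart_hι t) hT hT').coconePointUniqueUpToIso
        hS.gIsCokernel
    have he : AbelianSubcategory.πQ f₂ β ≫ e.hom = v :=
      (AbelianSubcategory.isColimitCokernelCofork (ιHeart_hι t) hT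
        hT').comp_coconePointUniqueUpToIso_hom hS.gIsCokernel WalkingParallelPair.one
    let e₃ : X₃ ≅ t.ιHeart.obj Z := asIso β ≪≫ t.ιHeart.mapIso e
    refine ⟨e₃.inv ≫ f₃, isomorphic_distinguished _ hT _ ?_⟩
    refine Triangle.isoMk _ _ (Iso.refl _) (Iso.refl _) e₃.symm ?_ ?_ ?_
    · exact (Category.comp_id _).trans (Category.id_comp _).symm
    · change t.ιHeart.map v ≫ e₃.inv = 𝟙 _ ≫ f₂
      rw [Category.id_comp, Iso.comp_inv_eq]
      simp [e₃, ← he]
    · change (e₃.inv ≫ f₃) ≫ (shiftFunctor C (1 : ℤ)).map (𝟙 _) = e₃.inv ≫ f₃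
      rw [CategoryTheory.Functor.map_id, Category.comp_id]
  · rintro ⟨w, hw⟩
    have huv : u ≫ v = 0 := t.ιHeart.map_injective (by
      rw [Functor.map_comp, Functor.map_zero]
      exact comp_distTriang_mor_zero₁₂ _ hw)
    have hk := AbelianSubcategory.isLimitKernelForkOfDistTriang (ιHeart_hι t) u v w hw
    have hc := AbelianSubcategory.isColimitCokernelCoforkOfDistTriang (ιHeart_hι t) u v w hw
    have hm : Mono u := mono_of_isLimit_fork hk
    have hp : Epi v := epi_of_isColimit_cofork hc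
    exact ⟨huv, { exact := ShortComplex.exact_of_g_is_cokernel (ShortComplex.mk u v huv) hc
                  mono_f := hm, epi_g := hp }⟩

section

variable (H0 : C ⥤ H) (e : H0 ⋙ t.ιHeart ≅ t.truncGE 0 ⋙ t.truncLE 0)

/-- The universal map `X ⟶ ι (H0 X)` for `X ≤ 0`. -/
noncomputable def pMap (X : C) [t.IsLE X 0] : X ⟶ t.ιHeart.obj (H0.obj X) :=
  (t.truncGEπ 0).app X ≫ inv ((t.truncLEι 0).app ((t.truncGE 0).obj X)) ≫ e.inv.app X

include e in
lemma isIso_H0_map {X Y : C} (f : X ⟶ Y)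
    (h : IsIso ((t.truncLE 0).map ((t.truncGE 0).map f))) : IsIso (H0.map f) := by
  have h1 : IsIso ((H0 ⋙ t.ιHeart).map f) :=
    (NatIso.isIso_map_iff e f).2 h
  haveI : IsIso (t.ιHeart.map (H0.map f)) := h1
  exact isIso_of_reflects_iso (H0.map f) t.ιHeart

include e in
lemma isIso_H0_map₁ (T : Triangle C) (hT : T ∈ distTriang C) (h : t.IsGE T.obj₃ 1) :
    IsIso (H0.map T.mor₁) := by
  refine isIso_H0_map t H0 e _ ?_
  have h1 := t.isIso₁_truncLE_map_of_isGE T hT 0 1 (by simp) h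
  exact (NatIso.isIso_map_iff (t.truncGELEIsoLEGE 0 0) T.mor₁).1
    (show IsIso ((t.truncGE 0).map ((t.truncLE 0).map T.mor₁)) from inferInstance)

include e in
lemma isIso_H0_map₂ (T : Triangle C) (hT : T ∈ distTriang C) (h : t.IsLE T.obj₁ (-1)) :
    IsIso (H0.map T.mor₂) := by
  refine isIso_H0_map t H0 e _ ?_
  have h1 := t.isIso₂_truncGE_map_of_isLE T hT (-1) 0 (by simp) h
  infer_instance

lemma pMap_naturality {X Y : C} [t.IsLE X 0] [t.IsLE Y 0] (f : X ⟶ Y) :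
    f ≫ pMap t H0 e Y = pMap t H0 e X ≫ t.ιHeart.map (H0.map f) := by
  have h1 : (t.truncGE 0).map f ≫ inv ((t.truncLEι 0).app ((t.truncGE 0).obj Y)) =
      inv ((t.truncLEι 0).app ((t.truncGE 0).obj X)) ≫ (t.truncLE 0).map ((t.truncGE 0).map f) := by
    rw [IsIso.comp_inv_eq, Category.assoc, IsIso.eq_inv_comp]
    exact ((t.truncLEι 0).naturality _).symm
  have h2 : f ≫ (t.truncGEπ 0).app Y = (t.truncGEπ 0).app X ≫ (t.truncGE 0).map f :=
    (t.truncGEπ 0).naturality f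
  have h3 : (t.truncLE 0).map ((t.truncGE 0).map f) ≫ e.inv.app Y =
      e.inv.app X ≫ t.ιHeart.map (H0.map f) := e.inv.naturality f
  simp only [pMap, Category.assoc]
  rw [reassoc_of% h2, reassoc_of% h1, h3]

omit [IsTriangulated C] [Abelian H] in
lemma isGE_ιHeart [Preadditive H] [t.Heart H] (A : H) : t.IsGE (t.ιHeart.obj A) 0 := inferInstance

lemma pMap_ext {X : C} [t.IsLE X 0] {Z : C} [t.IsGE Z 0]
    {f g : t.ιHeart.obj (H0.obj X) ⟶ Z} (h : pMap t H0 e X ≫ f = pMap t H0 e X ≫ g) : f = g := by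
  simp only [pMap, Category.assoc] at h
  have h' := t.from_truncGE_obj_ext h
  exact (cancel_epi (e.inv.app X)).1 ((cancel_epi _).1 h')

lemma pMap_desc {X : C} [t.IsLE X 0] {Z : C} [t.IsGE Z 0] (f : X ⟶ Z) :
    ∃ g, pMap t H0 e X ≫ g = f :=
  ⟨e.hom.app X ≫ (t.truncLEι 0).app ((t.truncGE 0).obj X) ≫ t.descTruncGE f 0, by
    simp only [pMap, Category.assoc, Iso.inv_hom_id_app_assoc, IsIso.inv_hom_id_assoc,
      TStructure.π_descTruncGE]⟩

/-- The universal map `ι (H0 X) ⟶ X` for `X ≥ 0`. -/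
noncomputable def qMap (X : C) [t.IsGE X 0] : t.ιHeart.obj (H0.obj X) ⟶ X :=
  e.hom.app X ≫ (t.truncLEι 0).app ((t.truncGE 0).obj X) ≫ inv ((t.truncGEπ 0).app X)

lemma qMap_naturality {X Y : C} [t.IsGE X 0] [t.IsGE Y 0] (f : X ⟶ Y) :
    t.ιHeart.map (H0.map f) ≫ qMap t H0 e Y = qMap t H0 e X ≫ f := by
  have h1 : (t.truncGE 0).map f ≫ inv ((t.truncGEπ 0).app Y) = inv ((t.truncGEπ 0).app X) ≫ f := by
    rw [IsIso.comp_inv_eq, Category.assoc, IsIso.eq_inv_comp]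
    exact ((t.truncGEπ 0).naturality f).symm
  have h2 : (t.truncLE 0).map ((t.truncGE 0).map f) ≫ (t.truncLEι 0).app _ =
      (t.truncLEι 0).app _ ≫ (t.truncGE 0).map f := (t.truncLEι 0).naturality _
  have h3 : t.ιHeart.map (H0.map f) ≫ e.hom.app Y =
      e.hom.app X ≫ (t.truncLE 0).map ((t.truncGE 0).map f) := e.hom.naturality f
  simp only [qMap, Category.assoc]
  rw [reassoc_of% h3]
  calc e.hom.app X ≫ (t.truncLE 0).map ((t.truncGE 0).map f) ≫
        (t.truncLEι 0).app ((t.truncGE 0).obj Y) ≫ inv ((t.truncGEπ 0).app Y)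
      = e.hom.app X ≫ ((t.truncLE 0).map ((t.truncGE 0).map f) ≫
          (t.truncLEι 0).app ((t.truncGE 0).obj Y)) ≫ inv ((t.truncGEπ 0).app Y) :=
        congrArg (e.hom.app X ≫ ·) (Category.assoc _ _ _).symm
    _ = e.hom.app X ≫ ((t.truncLEι 0).app ((t.truncGE 0).obj X) ≫ (t.truncGE 0).map f) ≫
          inv ((t.truncGEπ 0).app Y) :=
        congrArg (fun a => e.hom.app X ≫ a ≫ inv ((t.truncGEπ 0).app Y)) h2
    _ = e.hom.app X ≫ (t.truncLEι 0).app ((t.truncGE 0).obj X) ≫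
          ((t.truncGE 0).map f ≫ inv ((t.truncGEπ 0).app Y)) :=
        congrArg (e.hom.app X ≫ ·) (Category.assoc _ _ _)
    _ = _ := congrArg (fun a => e.hom.app X ≫ (t.truncLEι 0).app ((t.truncGE 0).obj X) ≫ a) h1

lemma qMap_ext {X : C} [t.IsGE X 0] {Z : C} [t.IsLE Z 0]
    {f g : Z ⟶ t.ιHeart.obj (H0.obj X)} (h : f ≫ qMap t H0 e X = g ≫ qMap t H0 e X) : f = g := by
  simp only [qMap, ← Category.assoc, cancel_mono] at h
  exact (cancel_mono (e.hom.app X)).1 (t.to_truncLE_obj_ext h)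

include e in
lemma preservesZeroMorphisms_H0 : H0.PreservesZeroMorphisms where
  map_zero X Y := t.ιHeart.map_injective (by
    have h3 := e.hom.naturality (0 : X ⟶ Y)
    simp only [Functor.comp_map, Functor.map_zero, comp_zero] at h3
    rw [t.ιHeart.map_zero, ← cancel_mono (e.hom.app Y)]
    exact h3.trans zero_comp.symm)

include e in
lemma H0_comp_zero {X Y Z : C} (f : X ⟶ Y) (g : Y ⟶ Z) (w : f ≫ g = 0) :
    H0.map f ≫ H0.map g = 0 := by
  have := preservesZeroMorphisms_H0 t H0 e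
  rw [← Functor.map_comp, w, Functor.map_zero]

include e in
/-- Right exactness of `H0` on `≤ 0`. -/
lemma exact_epi_of_isLE₁₂₃ (T : Triangle C) (hT : T ∈ distTriang C) [t.IsLE T.obj₁ 0]
    [t.IsLE T.obj₂ 0] [t.IsLE T.obj₃ 0] (w : H0.map T.mor₁ ≫ H0.map T.mor₂ = 0) :
    (ShortComplex.mk _ _ w).Exact ∧ Epi (H0.map T.mor₂) := by
  have hepi : Epi (H0.map T.mor₂) := by
    rw [Preadditive.epi_iff_cancel_zero]
    intro A k hk
    apply t.ιHeart.map_injective
    rw [Functor.map_zero]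
    refine pMap_ext t H0 e (by
      have h0 : T.mor₂ ≫ pMap t H0 e T.obj₃ ≫ t.ιHeart.map k = 0 := by
        rw [← Category.assoc, pMap_naturality, Category.assoc, ← Functor.map_comp, hk,
          Functor.map_zero, comp_zero]
      obtain ⟨n, hn⟩ := Triangle.yoneda_exact₃ _ hT _ h0
      have : t.IsLE (T.obj₁⟦(1 : ℤ)⟧) (-1) := t.isLE_shift _ 0 1 (-1)
      rw [hn, t.zero n (-1) 0, comp_zero, comp_zero])
  refine ⟨(ShortComplex.exact_and_epi_g_iff_g_is_cokernel _).2 ⟨?_⟩ |>.1, hepi⟩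
  refine CokernelCofork.IsColimit.ofπ' _ w fun {A} k hk => Classical.indefiniteDescription _ ?_
  have h0 : T.mor₁ ≫ pMap t H0 e T.obj₂ ≫ t.ιHeart.map k = 0 := by
    rw [← Category.assoc, pMap_naturality, Category.assoc, ← Functor.map_comp, hk,
      Functor.map_zero, comp_zero]
  obtain ⟨m, hm⟩ := Triangle.yoneda_exact₂ _ hT _ h0
  obtain ⟨g, hg⟩ := pMap_desc t H0 e m
  refine ⟨t.ιHeart.preimage g, t.ιHeart.map_injective (pMap_ext t H0 e ?_)⟩
  rw [Functor.map_comp, Functor.map_preimage, ← Category.assoc, ← pMap_naturality, Category.assoc,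
    hg, hm]

include e in
/-- Transport of exactness along isomorphisms. -/
lemma exact_epi_of_isLE₁ (T : Triangle C) (hT : T ∈ distTriang C) [t.IsLE T.obj₁ 0]
    (w : H0.map T.mor₁ ≫ H0.map T.mor₂ = 0) :
    (ShortComplex.mk _ _ w).Exact ∧ Epi (H0.map T.mor₂) := by
  obtain ⟨W, g', h', hW⟩ := distinguished_cocone_triangle (t.liftTruncLE T.mor₁ 0)
  have hle : t.IsLE W 0 :=
    t.isLE₂ _ (rot_of_distTriang _ hW) 0
      (inferInstanceAs (t.IsLE ((t.truncLE 0).obj T.obj₂) 0))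
      (by
        have := t.isLE_shift T.obj₁ 0 1 (-1)
        exact t.isLE_of_le (T.obj₁⟦(1 : ℤ)⟧) (-1) 0)
  have O := someOctahedron (t.liftTruncLE_ι T.mor₁ 0) hW
    (t.triangleLEGE_distinguished 0 1 (by simp) T.obj₂) hT
  have hm : IsIso (H0.map O.m₁) :=
    isIso_H0_map₁ t H0 e _ O.mem (inferInstanceAs (t.IsGE ((t.truncGE 1).obj T.obj₂) 1))
  have hi : IsIso (H0.map ((t.truncLEι 0).app T.obj₂)) :=
    isIso_H0_map₁ t H0 e ((t.triangleLEGE 0 1 (show (0 : ℤ) + 1 = 1 by simp)).obj T.obj₂) (t.triangleLEGE_distinguished 0 1 (by simp) T.obj₂)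
      (inferInstance : t.IsGE ((t.truncGE 1).obj T.obj₂) 1)
  have w' := H0_comp_zero t H0 e (t.liftTruncLE T.mor₁ 0) g' (comp_distTriang_mor_zero₁₂ _ hW)
  haveI : t.IsLE (Triangle.mk (t.liftTruncLE T.mor₁ 0) g' h').obj₁ 0 :=
    inferInstanceAs (t.IsLE T.obj₁ 0)
  haveI : t.IsLE (Triangle.mk (t.liftTruncLE T.mor₁ 0) g' h').obj₂ 0 :=
    inferInstanceAs (t.IsLE ((t.truncLE 0).obj T.obj₂) 0)
  haveI : t.IsLE (Triangle.mk (t.liftTruncLE T.mor₁ 0) g' h').obj₃ 0 := hle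
  obtain ⟨hx, hp⟩ := exact_epi_of_isLE₁₂₃ t H0 e _ hW w'
  have hc : H0.map ((t.truncLEι 0).app T.obj₂) ≫ H0.map T.mor₂ = H0.map g' ≫ H0.map O.m₁ := by
    rw [← Functor.map_comp, ← Functor.map_comp]
    exact congrArg H0.map O.comm₁.symm
  refine ⟨(ShortComplex.exact_iff_of_iso
    (ShortComplex.isoMk (S₁ := ShortComplex.mk _ _ w') (S₂ := ShortComplex.mk _ _ w) (Iso.refl _)
      (@asIso _ _ _ _ (H0.map ((t.truncLEι 0).app T.obj₂)) hi)
      (@asIso _ _ _ _ (H0.map O.m₁) hm) ?_ hc)).1 hx, ?_⟩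
  · change 𝟙 _ ≫ H0.map T.mor₁ = H0.map (t.liftTruncLE T.mor₁ 0) ≫ _
    rw [Category.id_comp]
    exact (congrArg H0.map (t.liftTruncLE_ι T.mor₁ 0).symm).trans (H0.map_comp _ _)
  · have hp' : Epi (H0.map g') := hp
    have : Epi (H0.map ((t.truncLEι 0).app T.obj₂) ≫ H0.map T.mor₂) := by
      rw [hc]; exact epi_comp' hp' inferInstance
    exact epi_of_epi (H0.map ((t.truncLEι 0).app T.obj₂)) (H0.map T.mor₂)

include e in
/-- Left exactness of `H0` for a triangle with third object `≥ 0`. -/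
lemma mono_of_isGE₃ (T : Triangle C) (hT : T ∈ distTriang C) [t.IsGE T.obj₃ 0] :
    Mono (H0.map T.mor₁) := by
  have hlt : IsIso ((t.truncLT 0).map T.mor₁) :=
    t.isIso₁_truncLT_map_of_isGE T hT 0 inferInstance
  rw [Preadditive.mono_iff_cancel_zero]
  intro A k hk
  apply t.ιHeart.map_injective
  rw [t.ιHeart.map_zero, ← cancel_mono (e.hom.app T.obj₁)]
  refine Eq.trans (t.to_truncLE_obj_ext ?_) zero_comp.symm
  erw [zero_comp]
  let g : t.ιHeart.obj A ⟶ (t.truncGE 0).obj T.obj₁ :=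
    (t.ιHeart.map k ≫ e.hom.app T.obj₁) ≫ (t.truncLEι 0).app ((t.truncGE 0).obj T.obj₁)
  show g = 0
  have hg : g ≫ (t.truncGE 0).map T.mor₁ = 0 := by
    have h2 : (t.truncLE 0).map ((t.truncGE 0).map T.mor₁) ≫ (t.truncLEι 0).app _ =
        (t.truncLEι 0).app _ ≫ (t.truncGE 0).map T.mor₁ := (t.truncLEι 0).naturality _
    have h3 : t.ιHeart.map (H0.map T.mor₁) ≫ e.hom.app T.obj₂ =
        e.hom.app T.obj₁ ≫ (t.truncLE 0).map ((t.truncGE 0).map T.mor₁) :=
      e.hom.naturality T.mor₁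
    calc g ≫ (t.truncGE 0).map T.mor₁
        = t.ιHeart.map k ≫ (e.hom.app T.obj₁ ≫ (t.truncLE 0).map ((t.truncGE 0).map T.mor₁)) ≫
            (t.truncLEι 0).app _ := by
          simp only [g, Category.assoc]
          erw [h2]
          rfl
      _ = t.ιHeart.map (k ≫ H0.map T.mor₁) ≫ e.hom.app T.obj₂ ≫ (t.truncLEι 0).app _ := by
          rw [← h3, Functor.map_comp]; simp only [Category.assoc]
      _ = 0 := by rw [hk, Functor.map_zero, zero_comp]
  obtain ⟨g', hg'⟩ : ∃ g' : t.ιHeart.obj A ⟶ T.obj₁, g = g' ≫ (t.truncGEπ 0).app T.obj₁ := by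
    refine Triangle.coyoneda_exact₃ _ (t.triangleLTGE_distinguished 0 T.obj₁) g ?_
    have hn : (t.truncGEδLT 0).app T.obj₁ ≫ (shiftFunctor C (1 : ℤ)).map ((t.truncLT 0).map T.mor₁) =
        (t.truncGE 0).map T.mor₁ ≫ (t.truncGEδLT 0).app T.obj₂ :=
      ((t.truncGEδLT 0).naturality T.mor₁).symm
    have h0 : (g ≫ (t.truncGEδLT 0).app T.obj₁) ≫
        (shiftFunctor C (1 : ℤ)).map ((t.truncLT 0).map T.mor₁) = 0 := by
      erw [Category.assoc, hn, ← Category.assoc, hg, zero_comp]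
    haveI : IsIso ((shiftFunctor C (1 : ℤ)).map ((t.truncLT 0).map T.mor₁)) := inferInstance
    exact (cancel_mono ((shiftFunctor C (1 : ℤ)).map ((t.truncLT 0).map T.mor₁))).1
      (h0.trans zero_comp.symm)
  have h1 : (g' ≫ T.mor₁) ≫ (t.truncGEπ 0).app T.obj₂ = 0 := by
    have hn : T.mor₁ ≫ (t.truncGEπ 0).app T.obj₂ =
        (t.truncGEπ 0).app T.obj₁ ≫ (t.truncGE 0).map T.mor₁ := (t.truncGEπ 0).naturality T.mor₁
    erw [Category.assoc, hn, ← Category.assoc, ← hg', hg]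
  obtain ⟨h', hh'⟩ : ∃ h' : t.ιHeart.obj A ⟶ (t.truncLT 0).obj T.obj₂,
      g' ≫ T.mor₁ = h' ≫ (t.truncLTι 0).app T.obj₂ :=
    Triangle.coyoneda_exact₂ _ (t.triangleLTGE_distinguished 0 T.obj₂) _ h1
  have hn : (t.truncLT 0).map T.mor₁ ≫ (t.truncLTι 0).app T.obj₂ =
      (t.truncLTι 0).app T.obj₁ ≫ T.mor₁ := (t.truncLTι 0).naturality T.mor₁
  let s : t.ιHeart.obj A ⟶ T.obj₁ :=
    h' ≫ inv ((t.truncLT 0).map T.mor₁) ≫ (t.truncLTι 0).app T.obj₁
  have hs : s ≫ T.mor₁ = g' ≫ T.mor₁ := by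
    refine ((Category.assoc _ _ _).trans ?_).trans hh'.symm
    refine congrArg (h' ≫ ·) ((Category.assoc _ _ _).trans ?_)
    rw [← hn]
    exact IsIso.inv_hom_id_assoc _ _
  have hd : (g' - s) ≫ T.mor₁ = 0 := by rw [Preadditive.sub_comp, hs, sub_self]
  obtain ⟨q, hq⟩ := Triangle.coyoneda_exact₂ _ (inv_rot_of_distTriang _ hT) (g' - s) hd
  have hq0 : q = 0 :=
    t.zero_of_isLE_of_isGE q 0 1 (by simp) inferInstance (t.isGE_shift T.obj₃ 0 (-1) 1)
  rw [hq0, zero_comp] at hq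
  have : g' = s := sub_eq_zero.1 hq
  rw [hg', this]
  dsimp only [s]
  simp only [Category.assoc]
  erw [TStructure.truncLTι_comp_truncGEπ_app, comp_zero, comp_zero]

include e in
theorem isHomological : H0.IsHomological := by
  have := preservesZeroMorphisms_H0 t H0 e
  constructor
  intro T hT
  obtain ⟨W, g', h', hW⟩ := distinguished_cocone_triangle ((t.truncLEι 0).app T.obj₁ ≫ T.mor₁)
  have O := someOctahedron rfl (t.triangleLEGE_distinguished 0 1 (by simp) T.obj₁) hT hW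
  have hi : IsIso (H0.map ((t.truncLEι 0).app T.obj₁)) :=
    isIso_H0_map₁ t H0 e ((t.triangleLEGE 0 1 (show (0 : ℤ) + 1 = 1 by simp)).obj T.obj₁) (t.triangleLEGE_distinguished 0 1 (by simp) T.obj₁)
      (inferInstance : t.IsGE ((t.truncGE 1).obj T.obj₁) 1)
  haveI : t.IsGE O.triangle.rotate.obj₃ 0 :=
    t.isGE_shift ((t.truncGE 1).obj T.obj₁) 1 1 0
  have hm : Mono (H0.map O.m₃) :=
    mono_of_isGE₃ t H0 e O.triangle.rotate (rot_of_distTriang _ O.mem)
  haveI : t.IsLE (Triangle.mk ((t.truncLEι 0).app T.obj₁ ≫ T.mor₁) g' h').obj₁ 0 :=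
    inferInstanceAs (t.IsLE ((t.truncLE 0).obj T.obj₁) 0)
  have w' := H0_comp_zero t H0 e _ g' (comp_distTriang_mor_zero₁₂ _ hW)
  have hx := (exact_epi_of_isLE₁ t H0 e _ hW w').1
  let φ : ShortComplex.mk _ _ w' ⟶ (shortComplexOfDistTriangle T hT).map H0 :=
    { τ₁ := H0.map ((t.truncLEι 0).app T.obj₁)
      τ₂ := 𝟙 _
      τ₃ := H0.map O.m₃
      comm₁₂ := ((Category.comp_id _).trans (H0.map_comp _ _)).symm
      comm₂₃ := by
        change 𝟙 _ ≫ H0.map T.mor₂ = H0.map g' ≫ H0.map O.m₃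
        rw [Category.id_comp, ← Functor.map_comp]
        exact congrArg H0.map O.comm₃.symm }
  haveI : IsIso φ.τ₁ := hi
  haveI : IsIso φ.τ₂ := inferInstanceAs (IsIso (𝟙 _))
  haveI : Mono φ.τ₃ := hm
  have hφ := ShortComplex.exact_iff_of_epi_of_isIso_of_mono φ
  exact hφ.1 hx

end

end Groth.Agent.PervTLib
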