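import Mathlib.CategoryTheory.Triangulated.TStructure.TruncLEGT
import Mathlib.CategoryTheory.Triangulated.TStructure.Heart
import Mathlib.CategoryTheory.Triangulated.Subcategory
import Mathlib.CategoryTheory.Triangulated.Functor
import Mathlib.CategoryTheory.Localization.CalculusOfFractions

/-!
# The t-structure induced on a Verdier quotient

Given a bounded t-structure `t` on `C` and a triangulated subcategory `D` which is stable under
cohomology and whose trace on the heart is stable by subobjects and quotients, morphisms in the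
quotient from `≤ 0` to `≥ 1` vanish.
-/

universe v u v' u'

open CategoryTheory CategoryTheory.Limits CategoryTheory.Pretriangulated CategoryTheory.Triangulated

namespace Groth.Agent.PervTLib.Verdier

variable {C : Type u} [Category.{v} C] [Preadditive C] [HasZeroObject C] [HasShift C ℤ]
  [∀ n : ℤ, (shiftFunctor C n).Additive] [Pretriangulated C] [IsTriangulated C]
  (t : TStructure C) (D : ObjectProperty C) [D.IsTriangulated] [D.IsClosedUnderIsomorphisms]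

omit [IsTriangulated C] in
lemma distTriang_LEGE (a b : ℤ) (h : a + 1 = b) (X : C) :
    Triangle.mk ((t.truncLEι a).app X) ((t.truncGEπ b).app X) ((t.truncGEδLE a b h).app X) ∈
      distTriang C :=
  t.triangleLEGE_distinguished a b h X

lemma prop_truncLE_of_prop
    (h1 : ∀ X : C, D X → ∀ n : ℤ, D ((t.truncGELE n n).obj X)) (b : ℤ) :
    ∀ (k : ℕ) (X : C), D X → t.IsLE X b → D ((t.truncLE (b - k)).obj X) := by
  intro k
  induction k generalizing b with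
  | zero =>
    intro X hX hb
    rw [Nat.cast_zero, sub_zero]
    exact D.prop_of_iso (asIso ((t.truncLEι b).app X)).symm hX
  | succ k ih =>
    intro X hX hb
    have hge : D ((t.truncGE b).obj X) :=
      D.prop_of_iso ((t.truncGE b).mapIso (asIso ((t.truncLEι b).app X))) (h1 X hX b)
    have hle : D ((t.truncLE (b - 1)).obj X) :=
      D.ext_of_isTriangulatedClosed₁
      (Triangle.mk ((t.truncLEι (b - 1)).app X) ((t.truncGEπ b).app X)
        ((t.truncGEδLE (b - 1) b (by simp)).app X))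
      (distTriang_LEGE t (b - 1) b (by simp) X) hX hge
    have := ih (b - 1) _ hle inferInstance
    have e := (show b - ((k + 1 : ℕ) : ℤ) = b - 1 - (k : ℤ) by push_cast; omega)
    rw [e]
    haveI hi := t.isIso_truncLE_map_truncLEι_app (b - 1 - (k : ℤ)) (b - 1) (by omega) X
    exact D.prop_of_iso (@asIso _ _ _ _ ((t.truncLE (b - 1 - (k : ℤ))).map ((t.truncLEι (b - 1)).app X)) hi) this

lemma prop_truncLE (hb : ∀ X : C, t.bounded X)
    (h1 : ∀ X : C, D X → ∀ n : ℤ, D ((t.truncGELE n n).obj X)) (n : ℤ) (X : C) (hX : D X) :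
    D ((t.truncLE n).obj X) := by
  obtain ⟨-, m, hm⟩ := hb X
  haveI := hm
  haveI : t.IsLE X (max m n) := t.isLE_of_le X m (max m n)
  have := prop_truncLE_of_prop t D h1 (max m n) (max m n - n).toNat X hX inferInstance
  rwa [show max m n - ((max m n - n).toNat : ℤ) = n by omega] at this

lemma prop_truncGE (hb : ∀ X : C, t.bounded X)
    (h1 : ∀ X : C, D X → ∀ n : ℤ, D ((t.truncGELE n n).obj X)) (n : ℤ) (X : C) (hX : D X) :
    D ((t.truncGE n).obj X) :=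
  D.ext_of_isTriangulatedClosed₃
    (Triangle.mk ((t.truncLEι (n - 1)).app X) ((t.truncGEπ n).app X)
      ((t.truncGEδLE (n - 1) n (by simp)).app X))
    (distTriang_LEGE t (n - 1) n (by simp) X)
    (prop_truncLE t D hb h1 _ X hX) hX

/-- The cokernel in the heart of a map to an object of `D` in the heart is in `D`. -/
lemma prop_truncGE_cone
    (h2 : ∀ (X Y Z : C) (f : X ⟶ Y) (g : Y ⟶ Z) (h : Z ⟶ X⟦(1 : ℤ)⟧),
      Triangle.mk f g h ∈ distTriang C → t.heart X → t.heart Y → t.heart Z → D Y → D X ∧ D Z)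
    {X H W : C} {k : X ⟶ H} {a : H ⟶ W} {b : W ⟶ X⟦(1 : ℤ)⟧}
    (hT : Triangle.mk k a b ∈ distTriang C) [t.IsLE X 0] [t.IsLE H 0] [t.IsGE H 0] (hH : D H) :
    D ((t.truncGE 0).obj W) := by
  haveI hW : t.IsLE W 0 := by
    have := t.isLE_shift X 0 1 (-1)
    exact t.isLE₂ _ (rot_of_distTriang _ hT) 0 ‹t.IsLE H 0› (t.isLE_of_le (X⟦(1 : ℤ)⟧) (-1) 0)
  obtain ⟨V, a', b', hV⟩ := distinguished_cocone_triangle (a ≫ (t.truncGEπ 0).app W)
  have O := someOctahedron rfl (rot_of_distTriang _ hT)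
    (rot_of_distTriang _ (distTriang_LEGE t (-1) 0 (by simp) W)) hV
  haveI : t.IsLE V (-1) := by
    have h₁ : t.IsLE (X⟦(1 : ℤ)⟧) (-1) := t.isLE_shift X 0 1 (-1)
    have h₃' : t.IsLE (((t.truncLE (-1)).obj W)⟦(1 : ℤ)⟧) (-2) :=
      t.isLE_shift ((t.truncLE (-1)).obj W) (-1) 1 (-2)
    exact t.isLE₂ _ O.mem (-1) h₁ (t.isLE_of_le (((t.truncLE (-1)).obj W)⟦(1 : ℤ)⟧) (-2) (-1))
  haveI : t.IsGE ((t.truncGE 0).obj W) 0 := inferInstance
  haveI : t.IsLE ((t.truncGE 0).obj W) 0 := inferInstance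
  have hI := inv_rot_of_distTriang _ hV
  refine (h2 _ _ _ _ _ _ hI ((t.mem_heart_iff _).2 ⟨t.isLE_shift V (-1) (-1) 0, ?_⟩)
    ((t.mem_heart_iff _).2 ⟨(inferInstance : t.IsLE H 0), (inferInstance : t.IsGE H 0)⟩)
    ((t.mem_heart_iff _).2 ⟨(inferInstance : t.IsLE ((t.truncGE 0).obj W) 0),
      (inferInstance : t.IsGE ((t.truncGE 0).obj W) 0)⟩) hH).2
  have h₁ : t.IsGE (((t.truncGE 0).obj W)⟦(-1 : ℤ)⟧) 1 := t.isGE_shift _ 0 (-1) 1
  exact t.isGE₂ _ (inv_rot_of_distTriang _ hI) 0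
    (t.isGE_of_ge (((t.truncGE 0).obj W)⟦(-1 : ℤ)⟧) 0 1) ‹t.IsGE H 0›

/-- A `D`-quasi-isomorphism with target `≤ 0` can be refined to one with source `≤ 0`. -/
lemma exists_trW_refine (hb : ∀ X : C, t.bounded X)
    (h1 : ∀ X : C, D X → ∀ n : ℤ, D ((t.truncGELE n n).obj X))
    (h2 : ∀ (X Y Z : C) (f : X ⟶ Y) (g : Y ⟶ Z) (h : Z ⟶ X⟦(1 : ℤ)⟧),
      Triangle.mk f g h ∈ distTriang C → t.heart X → t.heart Y → t.heart Z → D Y → D X ∧ D Z)
    {X' X : C} (s : X' ⟶ X) (hs : D.trW s) [t.IsLE X 0] :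
    ∃ (X₀ : C) (u : X₀ ⟶ X'), t.IsLE X₀ 0 ∧ D.trW u := by
  obtain ⟨D0, g, δ, hT, hD0⟩ := (D.trW_iff s).1 hs
  -- first step: we may assume that the cone is `≤ 0`
  obtain ⟨W', p, r, hW'⟩ := distinguished_cocone_triangle (t.liftTruncLE g 0)
  have O := someOctahedron (t.liftTruncLE_ι g 0) hW' (distTriang_LEGE t 0 1 (by simp) D0)
    (rot_of_distTriang _ hT)
  have hm : D.trW O.m₁ := ObjectProperty.trW.mk D O.mem (prop_truncGE t D hb h1 1 D0 hD0)
  have hm' : D.trW (O.m₁⟦(-1 : ℤ)⟧' ≫ (shiftFunctorCompIsoId C (1 : ℤ) (-1) (add_neg_cancel 1)).hom.app X') :=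
    D.trW.comp_mem _ _ (hm.shift (-1)) (D.trW_of_isIso ((shiftFunctorCompIsoId C (1 : ℤ) (-1) (add_neg_cancel 1)).hom.app X'))
  have hT1 := inv_rot_of_distTriang _ hW'
  -- second step: the cone is in `≤ 0`
  set X1 := W'⟦(-1 : ℤ)⟧
  let D1 := (t.truncLE 0).obj D0
  have hD1 : D D1 := prop_truncLE t D hb h1 0 D0 hD0
  have hH : D ((t.truncGE 0).obj D1) := prop_truncGE t D hb h1 0 D1 hD1
  obtain ⟨W, a, b, hW⟩ := distinguished_cocone_triangle (t.liftTruncLE g 0 ≫ (t.truncGEπ 0).app D1)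
  have O2 := someOctahedron rfl hW'
    (rot_of_distTriang _ (distTriang_LEGE t (-1) 0 (by simp) D1)) hW
  haveI : t.IsLE D1 0 := inferInstance
  have hQ : D ((t.truncGE 0).obj W) := prop_truncGE_cone t D h2 hW hH
  have hA : t.IsLE (((t.truncLE (-1)).obj D1)⟦(1 : ℤ)⟧) (-2) :=
    t.isLE_shift ((t.truncLE (-1)).obj D1) (-1) 1 (-2)
  haveI hA' : IsIso ((t.truncGE 0).map O2.m₁) :=
    t.isIso₂_truncGE_map_of_isLE _ (inv_rot_of_distTriang _ O2.mem) (-1) 0 (by simp)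
      (t.isLE_shift (((t.truncLE (-1)).obj D1)⟦(1 : ℤ)⟧) (-2) (-1) (-1))
  have hQ' : D ((t.truncGE 0).obj W') :=
    D.prop_of_iso (asIso ((t.truncGE 0).map O2.m₁)).symm hQ
  have hι : D.trW ((t.truncLEι (-1)).app W') :=
    ObjectProperty.trW.mk D
      (T := Triangle.mk ((t.truncLEι (-1)).app W') ((t.truncGEπ 0).app W')
        ((t.truncGEδLE (-1) 0 (by simp)).app W'))
      (distTriang_LEGE t (-1) 0 (by simp) W') hQ'
  exact ⟨((t.truncLE (-1)).obj W')⟦(-1 : ℤ)⟧, _, t.isLE_shift ((t.truncLE (-1)).obj W') (-1) (-1) 0,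
    D.trW.comp_mem _ _ (hι.shift (-1)) hm'⟩

variable {E : Type u'} [Category.{v'} E] [Preadditive E] [HasZeroObject E] [HasShift E ℤ]
  [∀ n : ℤ, (shiftFunctor E n).Additive] [Pretriangulated E]
  (q : C ⥤ E) [q.CommShift ℤ] [q.IsTriangulated] [q.IsLocalization D.trW]

/-- Morphisms in the quotient from `≤ 0` to `≥ 1` vanish. -/
lemma map_eq_zero (hb : ∀ X : C, t.bounded X)
    (h1 : ∀ X : C, D X → ∀ n : ℤ, D ((t.truncGELE n n).obj X))
    (h2 : ∀ (X Y Z : C) (f : X ⟶ Y) (g : Y ⟶ Z) (h : Z ⟶ X⟦(1 : ℤ)⟧),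
      Triangle.mk f g h ∈ distTriang C → t.heart X → t.heart Y → t.heart Z → D Y → D X ∧ D Z)
    {X Y : C} [t.IsLE X 0] [t.IsGE Y 1] (f : q.obj X ⟶ q.obj Y) : f = 0 := by
  obtain ⟨φ, hφ⟩ := Localization.exists_rightFraction q D.trW f
  obtain ⟨X₀, u, hX₀, hu⟩ := exists_trW_refine t D hb h1 h2 φ.s φ.hs
  haveI := hX₀
  haveI : IsIso (q.map φ.s) := Localization.inverts q D.trW _ φ.hs
  haveI : IsIso (q.map u) := Localization.inverts q D.trW _ hu
  have h0 : q.map u ≫ q.map φ.f = 0 := by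
    rw [← q.map_comp, t.zero (u ≫ φ.f) 0 1, Functor.map_zero]
  have h0' : q.map φ.f = 0 := by rw [← cancel_epi (q.map u), h0, comp_zero]
  have hs : q.map φ.s ≫ f = q.map φ.f := by
    rw [hφ, MorphismProperty.RightFraction.map_s_comp_map]
  rw [← cancel_epi (q.map φ.s), hs, h0', comp_zero]

include D in
/-- An object `≤ n` for a t-structure making `q` exact comes from an object `≤ n`. -/
lemma exists_le (t'' : TStructure E)
    (hle : ∀ (X : C) (n : ℤ), t.IsLE X n → t''.IsLE (q.obj X) n)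
    (hge : ∀ (X : C) (n : ℤ), t.IsGE X n → t''.IsGE (q.obj X) n)
    (Y : E) (n : ℤ) [t''.IsLE Y n] : ∃ A : C, t.IsLE A n ∧ Nonempty (q.obj A ≅ Y) := by
  haveI := Localization.essSurj q D.trW
  let e := q.objObjPreimageIso Y
  let X := q.objPreimage Y
  haveI : t''.IsLE (q.obj X) n := t''.isLE_of_iso e.symm n
  obtain ⟨A, B, hA, hB, i, p, δ, hT⟩ := t.exists_triangle X n (n + 1) rfl
  haveI := hle A n ⟨hA⟩
  haveI := hge B (n + 1) ⟨hB⟩
  have hT' := q.map_distinguished _ hT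
  have hp : (q.mapTriangle.obj (Triangle.mk i p δ)).mor₂ = 0 :=
    t''.zero_of_isLE_of_isGE (q.map p) n (n + 1) (by omega) inferInstance inferInstance
  obtain ⟨r, hr⟩ := Triangle.yoneda_exact₃ _ hT' (𝟙 _) (by rw [hp]; exact zero_comp)
  have hr0 : r = 0 := t''.zero_of_isLE_of_isGE r (n - 1) (n + 1) (by omega)
    (t''.isLE_shift (q.obj A) n 1 (n - 1)) (inferInstanceAs (t''.IsGE (q.obj B) (n + 1)))
  have hz : IsZero (q.mapTriangle.obj (Triangle.mk i p δ)).obj₃ := by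
    rw [IsZero.iff_id_eq_zero, hr, hr0, comp_zero]
  haveI : IsIso (q.map i) := (Triangle.isZero₃_iff_isIso₁ _ hT').1 hz
  exact ⟨A, ⟨hA⟩, ⟨asIso (q.map i) ≪≫ e⟩⟩

include D in
lemma exists_ge (t'' : TStructure E)
    (hle : ∀ (X : C) (n : ℤ), t.IsLE X n → t''.IsLE (q.obj X) n)
    (hge : ∀ (X : C) (n : ℤ), t.IsGE X n → t''.IsGE (q.obj X) n)
    (Y : E) (n : ℤ) [t''.IsGE Y n] : ∃ B : C, t.IsGE B n ∧ Nonempty (q.obj B ≅ Y) := by
  haveI := Localization.essSurj q D.trW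
  let e := q.objObjPreimageIso Y
  let X := q.objPreimage Y
  haveI : t''.IsGE (q.obj X) n := t''.isGE_of_iso e.symm n
  obtain ⟨A, B, hA, hB, i, p, δ, hT⟩ := t.exists_triangle X (n - 1) n (by omega)
  haveI := hle A (n - 1) ⟨hA⟩
  haveI := hge B n ⟨hB⟩
  have hT' := q.map_distinguished _ hT
  have hi : (q.mapTriangle.obj (Triangle.mk i p δ)).mor₁ = 0 :=
    t''.zero_of_isLE_of_isGE (q.map i) (n - 1) n (by omega) inferInstance inferInstance
  obtain ⟨r, hr⟩ := Triangle.coyoneda_exact₂ _ (inv_rot_of_distTriang _ hT') (𝟙 _)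
    (show 𝟙 _ ≫ (q.mapTriangle.obj (Triangle.mk i p δ)).mor₁ = 0 by rw [hi]; exact comp_zero)
  have hr0 : r = 0 := t''.zero_of_isLE_of_isGE r (n - 1) (n + 1) (by omega)
    (inferInstanceAs (t''.IsLE (q.obj A) (n - 1)))
    (t''.isGE_shift (q.obj B) n (-1) (n + 1))
  have hz : IsZero (q.mapTriangle.obj (Triangle.mk i p δ)).obj₁ := by
    rw [IsZero.iff_id_eq_zero]
    exact hr.trans (by rw [hr0]; exact zero_comp)
  haveI : IsIso (q.map p) := (Triangle.isZero₁_iff_isIso₂ _ hT').1 hz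
  exact ⟨B, ⟨hB⟩, ⟨(asIso (q.map p)).symm ≪≫ e⟩⟩

/-- The induced t-structure. -/
noncomputable def tStructure (hb : ∀ X : C, t.bounded X)
    (h1 : ∀ X : C, D X → ∀ n : ℤ, D ((t.truncGELE n n).obj X))
    (h2 : ∀ (X Y Z : C) (f : X ⟶ Y) (g : Y ⟶ Z) (h : Z ⟶ X⟦(1 : ℤ)⟧),
      Triangle.mk f g h ∈ distTriang C → t.heart X → t.heart Y → t.heart Z → D Y → D X ∧ D Z) :
    TStructure E where
  le n Y := ∃ X : C, t.IsLE X n ∧ Nonempty (q.obj X ≅ Y)
  ge n Y := ∃ X : C, t.IsGE X n ∧ Nonempty (q.obj X ≅ Y)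
  le_isClosedUnderIsomorphisms n := ⟨fun e ⟨X, hX, ⟨e'⟩⟩ => ⟨X, hX, ⟨e' ≪≫ e⟩⟩⟩
  ge_isClosedUnderIsomorphisms n := ⟨fun e ⟨X, hX, ⟨e'⟩⟩ => ⟨X, hX, ⟨e' ≪≫ e⟩⟩⟩
  le_shift n a n' h Y := fun ⟨X, hX, ⟨e⟩⟩ => ⟨X⟦a⟧, t.isLE_shift X n a n' h,
    ⟨(q.commShiftIso a).app X ≪≫ (shiftFunctor E a).mapIso e⟩⟩
  ge_shift n a n' h Y := fun ⟨X, hX, ⟨e⟩⟩ => ⟨X⟦a⟧, t.isGE_shift X n a n' h,
    ⟨(q.commShiftIso a).app X ≪≫ (shiftFunctor E a).mapIso e⟩⟩
  zero' Y₁ Y₂ f := fun ⟨X₁, hX₁, ⟨e₁⟩⟩ ⟨X₂, hX₂, ⟨e₂⟩⟩ => by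
    have h0 := map_eq_zero t D q hb h1 h2 (e₁.hom ≫ f ≫ e₂.inv)
    rw [← cancel_epi e₁.hom, ← cancel_mono e₂.inv, Category.assoc, h0, comp_zero, zero_comp]
  le_zero_le := fun Y ⟨X, hX, he⟩ => ⟨X, t.isLE_of_le X 0 1, he⟩
  ge_one_le := fun Y ⟨X, hX, he⟩ => ⟨X, t.isGE_of_ge X 0 1, he⟩
  exists_triangle_zero_one Y := by
    haveI := Localization.essSurj q D.trW
    let e := q.objObjPreimageIso Y
    obtain ⟨A, B, hA, hB, i, p, δ, hT⟩ := t.exists_triangle (q.objPreimage Y) 0 1 (by simp)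
    refine ⟨q.obj A, q.obj B, ⟨A, ⟨hA⟩, ⟨Iso.refl _⟩⟩, ⟨B, ⟨hB⟩, ⟨Iso.refl _⟩⟩,
      q.map i ≫ e.hom, e.inv ≫ q.map p, (q.mapTriangle.obj (Triangle.mk i p δ)).mor₃,
      isomorphic_distinguished _ (q.map_distinguished _ hT) _ ?_⟩
    refine Triangle.isoMk _ _ (Iso.refl _) e.symm (Iso.refl _) ?_ ?_ ?_
    · change (q.map i ≫ e.hom) ≫ e.inv = 𝟙 _ ≫ q.map i
      rw [Category.assoc, Iso.hom_inv_id, Category.comp_id, Category.id_comp]
    · change (e.inv ≫ q.map p) ≫ 𝟙 _ = e.inv ≫ q.map p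
      rw [Category.comp_id]
    · change (q.mapTriangle.obj (Triangle.mk i p δ)).mor₃ ≫ (shiftFunctor E (1 : ℤ)).map (𝟙 _) = 𝟙 _ ≫ _
      rw [CategoryTheory.Functor.map_id, Category.comp_id, Category.id_comp]

end Groth.Agent.PervTLib.Verdier
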